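import Groth.Agent.Lib.FEtEq25.GlobalSections
import Groth.Agent.Lib.VB17.Proper
import Mathlib.RingTheory.Artinian.Module
import Mathlib.FieldTheory.IsAlgClosed.Basic

/-!
# `h⁰(O)` of a reduced proper scheme over an algebraically closed field counts its components
-/

set_option autoImplicit false
set_option linter.style.haveILetI false
set_option backward.isDefEq.respectTransparency false
set_option backward.isDefEq.respectTransparency.types false
noncomputable section

universe u

open CategoryTheory CategoryTheory.Limits AlgebraicGeometry TopologicalSpace Opposite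

namespace Groth.Agent.H0Comp5

section Top

variable {T : Type u} [TopologicalSpace T] [NoetherianSpace T]

theorem finite_components : Finite (_root_.ConnectedComponents T) := by
  haveI : Finite (irreducibleComponents T) := (NoetherianSpace.finite_irreducibleComponents (α := T)).to_subtype
  refine Finite.of_surjective
    (fun Z : irreducibleComponents T => ((Z.2.1.nonempty.some : T) : _root_.ConnectedComponents T)) fun c => ?_
  obtain ⟨x, rfl⟩ := ConnectedComponents.surjective_coe c
  refine ⟨⟨irreducibleComponent x, irreducibleComponent_mem_irreducibleComponents x⟩, ?_⟩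
  refine ConnectedComponents.coe_eq_coe'.2 ?_
  exact (isIrreducible_irreducibleComponent.isConnected.isPreconnected.subset_connectedComponent mem_irreducibleComponent)
    (irreducibleComponent_mem_irreducibleComponents x).1.nonempty.some_mem

/-- Clopens are sets of components. -/
def clopensEquiv : {C : Set T // IsClopen C} ≃ Set (_root_.ConnectedComponents T) :=
  haveI := finite_components (T := T)
  { toFun := fun C => ConnectedComponents.mk '' C.1
    invFun := fun s => ⟨ConnectedComponents.mk ⁻¹' s,
      (isClopen_discrete s).preimage ConnectedComponents.continuous_coe⟩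
    left_inv := fun C => Subtype.ext (Set.ext fun x => ⟨fun ⟨y, hy, e⟩ =>
      C.2.connectedComponent_subset hy (ConnectedComponents.coe_eq_coe'.1 e.symm), fun hx => ⟨x, hx, rfl⟩⟩)
    right_inv := fun s => Set.image_preimage_eq s ConnectedComponents.surjective_coe }

end Top

/-- Idempotents of a product of fields. -/
theorem card_idempotent_pi {ι : Type u} [Finite ι] (F : ι → Type u) [∀ i, Field (F i)] :
    Nat.card {e : ∀ i, F i // IsIdempotentElem e} = 2 ^ Nat.card ι := by
  classical
  let φ : {e : ∀ i, F i // IsIdempotentElem e} ≃ (ι → Bool) :=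
    { toFun := fun e i => decide (e.1 i = 1)
      invFun := fun b => ⟨fun i => if b i then 1 else 0, funext fun i => by simp⟩
      left_inv := fun e => Subtype.ext (funext fun i => by
        rcases (IsIdempotentElem.iff_eq_zero_or_one.1 (congrFun e.2 i : e.1 i * e.1 i = e.1 i)) with h | h <;> simp [h])
      right_inv := fun b => funext fun i => by cases hb : b i <;> simp [hb] }
  rw [Nat.card_congr φ, Nat.card_fun, Nat.card_eq_fintype_card, Fintype.card_bool]

variable {X : Scheme.{u}}

/-- Idempotent functions are clopens. -/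
theorem card_idempotent : Nat.card {e : Γ(X, ⊤) // IsIdempotentElem e} = Nat.card {C : Set X // IsClopen C} := by
  refine Nat.card_congr (Equiv.ofBijective (fun e => ⟨X.basicOpen e.1, FEtEq25.isClopen_basicOpen e.2⟩) ⟨?_, ?_⟩)
  · intro e f h
    refine Subtype.ext (TopCat.Presheaf.section_ext X.sheaf _ _ _ fun x hx => ?_)
    have h' : (X.basicOpen e.1 : Set X) = X.basicOpen f.1 := congrArg Subtype.val h
    have key : ∀ g : {e : Γ(X, ⊤) // IsIdempotentElem e},
        (x ∈ X.basicOpen g.1 → X.presheaf.germ ⊤ x trivial g.1 = 1) ∧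
        (x ∉ X.basicOpen g.1 → X.presheaf.germ ⊤ x trivial g.1 = 0) := by
      intro g
      have hg : IsIdempotentElem (X.presheaf.germ ⊤ x trivial g.1) := g.2.map _
      refine ⟨fun hm => ?_, fun hm => ?_⟩
      · exact (IsIdempotentElem.iff_eq_one_of_isUnit ((X.mem_basicOpen_top g.1 x).1 hm)).1 hg
      · rcases IsLocalRing.isUnit_or_isUnit_one_sub_self (X.presheaf.germ ⊤ x trivial g.1) with hu | hu
        · exact absurd ((X.mem_basicOpen_top g.1 x).2 hu) hm
        · exact hu.mul_left_eq_zero.1 hg.mul_one_sub_self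
    by_cases hm : x ∈ X.basicOpen e.1
    · exact ((key e).1 hm).trans ((key f).1 (h' ▸ hm : x ∈ (X.basicOpen f.1 : Set X))).symm
    · exact ((key e).2 hm).trans ((key f).2 fun hf => hm (h'.symm ▸ hf : x ∈ (X.basicOpen e.1 : Set X))).symm
  · rintro ⟨C, hC⟩
    obtain ⟨e, he, heC⟩ := FEtEq25.exists_idempotent hC
    exact ⟨⟨e, he⟩, Subtype.ext heC⟩

variable (k : Type u) [Field k] [X.Over (Spec (CommRingCat.of k))]

/-- `h⁰(O) = π₀`. -/
theorem finrank_h0_eq_card [IsAlgClosed k] [IsProper (X ↘ Spec (CommRingCat.of k))]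
    [AlgebraicGeometry.IsReduced X] :
    Module.finrank k (Coh.HH X (Coh.structureModule X) 0) = Nat.card (_root_.ConnectedComponents X) := by
  haveI := CohFound.isNoetherian_of_isProper (X ↘ Spec (CommRingCat.of k))
  set f := X ↘ Spec (CommRingCat.of k)
  letI alg : Algebra k Γ(X, ⊤) := (((Scheme.ΓSpecIso (CommRingCat.of k)).inv ≫ f.appTop).hom).toAlgebra
  let e₀ : Coh.HH X (Coh.structureModule X) 0 ≃+ Γ(X, ⊤) :=
    Sheaf.H.equiv₀ (Coh.toAb (Coh.structureModule X)) (isTerminalTop (α := X.Opens))
  let e : Coh.HH X (Coh.structureModule X) 0 ≃ₗ[k] Γ(X, ⊤) :=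
    { e₀ with
      map_smul' := fun c x => by
        refine ((Sheaf.H.equiv₀_naturality (isTerminalTop (α := X.Opens))
          (Coh.smulAb (Coh.structureModule X) (Coh.toGlobal f c)) x).symm).trans ?_
        refine (Coh.smulAb_app _ _ _ _).trans ?_
        show Coh.resTop X (Opposite.op ⊤) _ * _ = _
        simp [Algebra.smul_def, RingHom.algebraMap_toAlgebra, Coh.resTop, Coh.toGlobal]
        rfl }
  rw [e.finrank_eq]
  haveI : Module.Finite k Γ(X, ⊤) := by
    haveI := VB17.fin_of_proper (k := k) (Coh.structureModule X) (M1.isCoh_structureModule X) 0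
    exact Module.Finite.equiv e
  haveI : IsArtinianRing Γ(X, ⊤) := IsArtinianRing.of_finite k _
  haveI : _root_.IsReduced Γ(X, ⊤) := inferInstance
  let ε := IsArtinianRing.equivPi Γ(X, ⊤)
  have hN : Module.finrank k Γ(X, ⊤) = Nat.card (MaximalSpectrum Γ(X, ⊤)) := by
    haveI := Fintype.ofFinite (MaximalSpectrum Γ(X, ⊤))
    let εk : Γ(X, ⊤) ≃ₗ[k] ∀ I : MaximalSpectrum Γ(X, ⊤), Γ(X, ⊤) ⧸ I.asIdeal :=
      { ε.toRingEquiv with
        map_smul' := fun c a => funext fun I => rfl }
    have h1 : ∀ I : MaximalSpectrum Γ(X, ⊤), Module.finrank k (Γ(X, ⊤) ⧸ I.asIdeal) = 1 := fun I => by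
      letI := Ideal.Quotient.field I.asIdeal
      rw [← (LinearEquiv.ofBijective (Algebra.linearMap k (Γ(X, ⊤) ⧸ I.asIdeal))
        (IsAlgClosed.algebraMap_bijective_of_isIntegral (k := k))).finrank_eq, Module.finrank_self]
    rw [εk.finrank_eq, Module.finrank_pi_fintype]
    simp [h1, Nat.card_eq_fintype_card]
  rw [hN]
  haveI := finite_components (T := (X : Type u))
  refine Nat.pow_right_injective (le_refl 2) ?_
  letI : ∀ I : MaximalSpectrum Γ(X, ⊤), Field (Γ(X, ⊤) ⧸ I.asIdeal) := fun I => Ideal.Quotient.field _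
  show 2 ^ Nat.card (MaximalSpectrum Γ(X, ⊤)) = 2 ^ Nat.card (_root_.ConnectedComponents X)
  calc 2 ^ Nat.card (MaximalSpectrum Γ(X, ⊤))
      = Nat.card {e : ∀ I : MaximalSpectrum Γ(X, ⊤), Γ(X, ⊤) ⧸ I.asIdeal // IsIdempotentElem e} :=
        (card_idempotent_pi _).symm
    _ = Nat.card {e : Γ(X, ⊤) // IsIdempotentElem e} :=
        (Nat.card_congr (ε.toEquiv.subtypeEquiv fun a => ⟨fun h => IsIdempotentElem.map (M := Γ(X, ⊤)) (show IsIdempotentElem a from h) ε, fun h => ε.injective (by
          rw [map_mul]; exact h)⟩)).symm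
    _ = Nat.card {C : Set X // IsClopen C} := card_idempotent
    _ = Nat.card (Set (_root_.ConnectedComponents X)) := Nat.card_congr (clopensEquiv (T := (X : Type u)))
    _ = 2 ^ Nat.card (_root_.ConnectedComponents X) := by
        haveI := Fintype.ofFinite (_root_.ConnectedComponents X)
        rw [Nat.card_eq_fintype_card, Nat.card_eq_fintype_card, Fintype.card_set]

end Groth.Agent.H0Comp5
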