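import Groth.Agent.Lib.H0Comp5.Main
import Groth.Agent.Lib.Multicross5.Scheme
import Groth.Agent.Lib.NormStalk17.Euler
import Groth.Agent.Lib.NodalRed10.Scheme
import Groth.Agent.Lib.TwoPts17.Count
import Groth.Agent.Lib.CurveR1_10.Dim
import Groth.Agent.Lib.Hens.Transfer
import Groth.Agent.Lib.CurveAmple18.Basic
import Groth.Agent.Lib.H12.DimZero

/-!
# The genus of a nodal curve and of its normalisation
-/

set_option autoImplicit false
set_option linter.style.haveILetI false
set_option backward.isDefEq.respectTransparency false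
set_option backward.isDefEq.respectTransparency.types false

universe u

open CategoryTheory CategoryTheory.Limits AlgebraicGeometry TopologicalSpace

namespace Groth.Agent.H0Comp5

attribute [local instance] Curv2.resAlgebra

theorem isCoh_coker {X X' : Scheme.{u}} [IsNoetherian X] (π : X' ⟶ X) [IsFinite π] :
    Coh.IsCoh (cokernel (ClSub.unitToPush π)) := by
  haveI := NormStalk17.isNoetherian_of_finite π
  haveI : (Scheme.Modules.pushforward π).IsRightAdjoint :=
    (Scheme.Modules.pullbackPushforwardAdjunction π).isRightAdjoint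
  haveI : PreservesFiniteLimits (Scheme.Modules.pushforward π) := inferInstance
  exact M1.isCoh_cokernel (CurveCoh17.isCoh_structureModule (X := X)).1
    (CohFound.isCoh_of_iso ((Functor.rightDerivedZeroIsoSelf _).app _)
      (CohFound.isCoh_rpush π CurveCoh17.isCoh_structureModule 0)) _

theorem genus_formula (k : Type u) [Field k] [IsAlgClosed k]
    (C : Scheme.{u}) [C.Over (Spec (CommRingCat.of k))] [IsProper (C ↘ (Spec (CommRingCat.of k)))]
    (hdim : ∀ Z ∈ irreducibleComponents (C : Type u), topologicalKrullDim Z = 1) (hC : Curv2.AtWorstNodal k C)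
    (C' : Scheme.{u}) (π : C' ⟶ C) [IsFinite π] (hC' : Pi1.IsNormalScheme C')
    (U : C.Opens) (hU : Dense (U : Set C)) (hU' : Dense ((π ⁻¹ᵁ U : C'.Opens) : Set C')) [IsIso (π ∣_ U)] :
    letI : C'.Over (Spec (CommRingCat.of k)) := ⟨π ≫ (C ↘ (Spec (CommRingCat.of k)))⟩
    (Curv2.genus k C : ℤ) + Nat.card (_root_.ConnectedComponents C') =
      (Curv2.genus k C' : ℤ) + Nat.card {x : C // Curv2.IsNode k C x} + Nat.card (_root_.ConnectedComponents C) := by
  letI : C'.Over (Spec (CommRingCat.of k)) := ⟨π ≫ (C ↘ (Spec (CommRingCat.of k)))⟩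
  classical
  set f := C ↘ Spec (CommRingCat.of k)
  haveI := CohFound.isNoetherian_of_isProper f
  haveI : GeometricallyReduced f := NodalRed10.geometricallyReduced_of_atWorstNodal C hC
  haveI : AlgebraicGeometry.IsReduced C := GeometricallyReduced.isReduced_of_flat_of_isLocallyNoetherian f
  haveI := NormStalk17.isReduced_of_normal hC'
  haveI : IsProper (C' ↘ Spec (CommRingCat.of k)) := inferInstanceAs (IsProper (π ≫ f))
  have hd : topologicalKrullDim C ≤ 1 :=
    CurveR1_10.topologicalKrullDim_le_of_components fun Z hZ => (hdim Z hZ).le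
  have hd' : topologicalKrullDim C' ≤ 1 := (H12.topologicalKrullDim_le_of_eq_of_specializes π π.continuous fun a b h e => H12.eq_of_specializes_of_isIntegralHom π h e).trans hd
  let F : C → ℤ := fun x => if Curv2.IsNode k C x then 1 else 0
  have hF : ∀ x, IsClosed ({x} : Set C) →
      F x = (Module.finrank k (C.residueField x) : ℤ) * ((Curv2.deltaInv (C.presheaf.stalk x)).toNat : ℤ) := by
    intro x hx
    rw [TwoPts17.finrank_residueField_eq_one hx, Nat.cast_one, one_mul]
    have hd1 := Multicross5.dim_stalk_eq_one k hdim hx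
    by_cases hn : Curv2.IsNode k C x
    · rw [show F x = 1 from if_pos hn, Multicross5.deltaInv_node hn hd1]; rfl
    · rw [show F x = 0 from if_neg hn]
      obtain ⟨V, hxV, hV⟩ := (hC x hx).resolve_right hn
      haveI := hV
      haveI := SmoothReg17.isRegularLocalRing_stalk (V.ι ≫ f) ⟨x, hxV⟩
      haveI : IsRegularLocalRing (C.presheaf.stalk x) :=
        IsRegularLocalRing.of_ringEquiv (V.stalkIso ⟨x, hxV⟩).commRingCatIsoToRingEquiv
      have h0 : Curv2.deltaInv (C.presheaf.stalk x) = 0 :=
        (S7653.result _ (Multicross5.isNagata_stalk k x) hd1).2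
          ((Hens.isDiscreteValuationRing_iff_regular_dim_one _).2 ⟨inferInstance, hd1⟩)
      rw [h0]; rfl
  have he := NormStalk17.euler_eq (k := k) π hd (rfl : π ≫ f = C' ↘ Spec (CommRingCat.of k)) hC' U hU hU' F hF fun x hx => if_neg fun h => hx h.1
  have hsum : ∑ᶠ x, F x = Nat.card {x : C // Curv2.IsNode k C x} := by
    obtain ⟨S, hS⟩ : ∃ S : Finset C, ∀ x, Curv2.IsNode k C x → x ∈ S := by
      haveI := NormStalk17.isNoetherian_of_finite π
      obtain ⟨S, hS⟩ := CurveCoh17.exists_suppIn_of_maximal (X := C) hd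
        (M := cokernel (ClSub.unitToPush π)) (isCoh_coker π) fun g hg a =>
          CurveCoh17.eq_zero_stalk_cokernel _ g (CurveCoh17.surjective_stalkLin_unitToPush π U
            (CurveCoh17.mem_of_dense_of_maximal hU hg)) a
      refine ⟨S, fun x hx => by_contra fun hxS => ?_⟩
      haveI : Subsingleton ((cokernel (ClSub.unitToPush π)).presheaf.stalk x) :=
        ⟨fun a b => (hS.zero x hxS a).trans (hS.zero x hxS b).symm⟩
      have h := NormStalk17.length_coker π hC' U hU hU' x
      rw [Multicross5.deltaInv_node hx (Multicross5.dim_stalk_eq_one k hdim hx.1), Module.length_eq_zero] at h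
      exact zero_ne_one h
    rw [finsum_eq_sum_of_support_subset F (s := S) fun x hx => hS x (by
        by_contra h; exact hx (if_neg h)), Finset.sum_boole, Nat.card_eq_of_bijective
        (fun x : {x : C // x ∈ S.filter (Curv2.IsNode k C)} =>
          (⟨x.1, (Finset.mem_filter.1 x.2).2⟩ : {x : C // Curv2.IsNode k C x}))
        ⟨fun a b h => Subtype.ext (congrArg (fun z => z.1) h), fun z =>
          ⟨⟨z.1, Finset.mem_filter.2 ⟨hS _ z.2, z.2⟩⟩, rfl⟩⟩ |>.symm, Nat.card_eq_finsetCard]
  rw [hsum, ((CurveAmple18.curveLike k C' hd').adm CurveCoh17.isCoh_structureModule).euler_eq,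
    ((CurveAmple18.curveLike k C hd).adm CurveCoh17.isCoh_structureModule).euler_eq,
    finrank_h0_eq_card, finrank_h0_eq_card] at he
  unfold Curv2.genus
  linarith

end Groth.Agent.H0Comp5
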