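import Groth.Agent.Lib.H0Comp5.Main
import Groth.Agent.Lib.Multicross5.Scheme
import Groth.Agent.Lib.Branch14.Main
import Groth.Agent.Lib.BiratDense12.Dense
import Groth.Agent.Lib.RefHull26.HomExt
import Groth.Agent.Lib.TwoPts17.Count
import Groth.Agent.Lib.CurveR1_10.Dim
import Groth.Agent.Lib.CurveAmple18.Basic
import Groth.Agent.Lib.H12.DimZero
import Groth.Agent.Lib.NormStalk17.Euler
import Groth.Agent.S7655

/-!
# Branches and components of normalisations
-/

set_option autoImplicit false
set_option linter.style.haveILetI false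
set_option backward.isDefEq.respectTransparency false
set_option backward.isDefEq.respectTransparency.types false
set_option synthInstance.maxHeartbeats 200000
set_option maxHeartbeats 1600000

universe u

open CategoryTheory CategoryTheory.Limits AlgebraicGeometry TopologicalSpace

namespace Groth.Agent.H0Comp5

attribute [local instance] Curv2.resAlgebra

theorem isField_stalk_maximal {X : Scheme.{u}} [IsNoetherian X] [AlgebraicGeometry.IsReduced X] (x : X)
    (hx : x ∈ BiratDense12.maxPts X) : IsField (X.presheaf.stalk x) := by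
  have h0 : ringKrullDim (X.presheaf.stalk x) = 0 := by
    rw [ringKrullDim_stalk_eq_coheight, Order.coheight_eq_zero.2 fun y hy =>
      le_of_eq (BiratDense12.eq_of_specializes hx hy)]
    rfl
  haveI : Ring.KrullDimLE 0 (X.presheaf.stalk x) := Ring.krullDimLE_iff.2 h0.le
  exact IsLocalRing.isField_iff_maximalIdeal_eq.2 (by
    rw [← Ring.KrullDimLE.nilradical_eq_maximalIdeal, nilradical_eq_zero]; rfl)

/-- Components and their generic points. -/
noncomputable def maxEquiv (X : Scheme.{u}) : BiratDense12.maxPts X ≃ irreducibleComponents (X : Type u) :=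
  Equiv.ofBijective (fun x => ⟨closure {x.1}, x.2⟩)
    ⟨fun _ _ h => Subtype.ext (inseparable_iff_closure_eq.2 (congrArg Subtype.val h)).eq, fun Z => by
      obtain ⟨g, hg⟩ := QuasiSober.sober (α := X) Z.2.1 (isClosed_of_mem_irreducibleComponents _ Z.2)
      exact ⟨⟨g, show closure {g} ∈ irreducibleComponents X by rw [hg.def]; exact Z.2⟩, Subtype.ext hg.def⟩⟩

theorem isCoh_coker' {X X' : Scheme.{u}} [IsNoetherian X] (π : X' ⟶ X) [IsFinite π] :
    Coh.IsCoh (cokernel (ClSub.unitToPush π)) := by
  haveI := NormStalk17.isNoetherian_of_finite π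
  haveI : (Scheme.Modules.pushforward π).IsRightAdjoint :=
    (Scheme.Modules.pullbackPushforwardAdjunction π).isRightAdjoint
  haveI : PreservesFiniteLimits (Scheme.Modules.pushforward π) := inferInstance
  exact M1.isCoh_cokernel (CurveCoh17.isCoh_structureModule (X := X)).1
    (CohFound.isCoh_of_iso ((Functor.rightDerivedZeroIsoSelf _).app _)
      (CohFound.isCoh_rpush π CurveCoh17.isCoh_structureModule 0)) _

section Branch

variable (A : Type u) [CommRing A] [IsLocalRing A]

theorem nonempty_emb (m' : MaximalSpectrum (CAlg2.normRed A)) : Nonempty (Brnch.Emb A m') := by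
  let K' := CAlg2.normRed A ⧸ m'.asIdeal
  letI : Field K' := Ideal.Quotient.field m'.asIdeal
  have hint : (Brnch.toResidue A m').IsIntegral := by
    refine RingHom.IsIntegral.trans _ _ (RingHom.IsIntegral.trans _ _ ?_ ?_) ?_
    · exact RingHom.isIntegral_of_surjective _ Ideal.Quotient.mk_surjective
    · exact fun x => (integralClosure.isIntegral (R := CAlg2.red A) (A := FractionRing (CAlg2.red A)) x)
    · exact RingHom.isIntegral_of_surjective _ Ideal.Quotient.mk_surjective
  have hker : IsLocalRing.maximalIdeal A ≤ RingHom.ker (Brnch.toResidue A m') := by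
    haveI : (RingHom.ker (Brnch.toResidue A m')).IsMaximal := by
      letI := (Brnch.toResidue A m').toAlgebra
      haveI : Algebra.IsIntegral A K' := ⟨hint⟩
      exact Ideal.isMaximal_comap_of_isIntegral_of_isMaximal (R := A) (S := K') ⊥
    exact (IsLocalRing.eq_maximalIdeal inferInstance).ge
  let ι : IsLocalRing.ResidueField A →+* K' :=
    Ideal.Quotient.lift _ (Brnch.toResidue A m') fun a ha => RingHom.mem_ker.1 (hker ha)
  letI := ι.toAlgebra
  haveI : Algebra.IsIntegral (IsLocalRing.ResidueField A) K' := ⟨fun x => by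
    obtain ⟨p, hp, hpx⟩ := hint x
    refine ⟨p.map (IsLocalRing.residue A), hp.map _, ?_⟩
    rw [Polynomial.eval₂_map]
    exact hpx⟩
  haveI : Algebra.IsAlgebraic (IsLocalRing.ResidueField A) K' := inferInstance
  letI : Algebra (IsLocalRing.ResidueField A) (AlgebraicClosure (IsLocalRing.ResidueField A)) :=
    AlgebraicClosure.instAlgebra (IsLocalRing.ResidueField A)
  let σ : K' →ₐ[IsLocalRing.ResidueField A] AlgebraicClosure (IsLocalRing.ResidueField A) := IsAlgClosed.lift
  exact ⟨⟨σ.toRingHom, RingHom.ext fun a => σ.commutes (IsLocalRing.residue A a)⟩⟩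

theorem numBranches_le_numGeomBranches [IsNoetherianRing A] :
    Brnch.numBranches A ≤ Brnch.numGeomBranches A := by
  rw [Branch14.numBranches_of_finite A (minimalPrimes.finite_of_isNoetherianRing A),
    Branch14.numGeomBranches_of_finite A (minimalPrimes.finite_of_isNoetherianRing A)]
  exact ENat.card_le_card_of_injective (f := fun m => ⟨m, (nonempty_emb A m).some⟩)
    fun a b h => congrArg Sigma.fst h

theorem one_le_numBranches [IsNoetherianRing A] : 1 ≤ Brnch.numBranches A := by
  rw [Branch14.numBranches_of_finite A (minimalPrimes.finite_of_isNoetherianRing A)]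
  haveI : Nontrivial (CAlg2.red A) := Ideal.Quotient.nontrivial_iff.2 fun h => one_ne_zero (α := A)
    ((Submodule.mem_bot A).1 (by simpa [nilradical, Ideal.mem_radical_iff] using (Ideal.eq_top_iff_one _).1 h))
  haveI : Nontrivial (FractionRing (CAlg2.red A)) := (IsFractionRing.injective (CAlg2.red A) (FractionRing (CAlg2.red A))).nontrivial
  haveI : Nontrivial (CAlg2.normRed A) := inferInstance
  obtain ⟨m, hm⟩ := Ideal.exists_maximal (CAlg2.normRed A)
  haveI : Nonempty (MaximalSpectrum (CAlg2.normRed A)) := ⟨⟨m, hm⟩⟩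
  exact ENat.one_le_card_iff_nonempty _ |>.2 inferInstance

end Branch

theorem card_components_eq {X : Scheme.{u}} [IsNoetherian X] (hdom : ∀ x : X, IsDomain (X.presheaf.stalk x)) :
    Nat.card (_root_.ConnectedComponents X) = Nat.card (irreducibleComponents (X : Type u)) := by
  have key : ∀ Z ∈ irreducibleComponents (X : Type u), IsOpen Z := fun Z hZ => by
    refine isOpen_iff_forall_mem_open.2 fun x hx => ?_
    obtain ⟨V, hxV, η, hη, hV⟩ := RH26.exists_irreducible_nhd_of_domain hdom x
    refine ⟨V, fun y hy => ?_, V.isOpen, hxV⟩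
    have hc := isClosed_of_mem_irreducibleComponents Z hZ
    obtain ⟨g, hg⟩ := QuasiSober.sober hZ.1 hc
    have hgV : g ∈ V := (hg.specializes hx).mem_open V.isOpen hxV
    have h2 : closure ({η} : Set X) ≤ Z := hZ.2 isIrreducible_singleton.closure (by
      rw [← hg.def]
      exact closure_minimal (Set.singleton_subset_iff.2 (specializes_iff_mem_closure.1 (hV g hgV))) isClosed_closure)
    exact h2 (specializes_iff_mem_closure.1 (hV y hy))
  refine (Nat.card_eq_of_bijective
    (fun Z : irreducibleComponents (X : Type u) => ((Z.2.1.nonempty.some : X) : _root_.ConnectedComponents X))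
    ⟨fun Z W h => ?_, fun c => ?_⟩).symm
  · have hc : ∀ Z : irreducibleComponents (X : Type u), connectedComponent Z.2.1.nonempty.some = Z.1 := fun Z =>
      (IsClopen.connectedComponent_subset ⟨isClosed_of_mem_irreducibleComponents _ Z.2, key _ Z.2⟩
        Z.2.1.nonempty.some_mem).antisymm
        (Z.2.1.isConnected.isPreconnected.subset_connectedComponent Z.2.1.nonempty.some_mem)
    exact Subtype.ext ((hc Z).symm.trans ((connectedComponent_eq (ConnectedComponents.coe_eq_coe'.1 h)).symm.trans (hc W)))
  · obtain ⟨x, rfl⟩ := ConnectedComponents.surjective_coe c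
    refine ⟨⟨irreducibleComponent x, irreducibleComponent_mem_irreducibleComponents x⟩, ?_⟩
    refine ConnectedComponents.coe_eq_coe'.2 ?_
    exact (isIrreducible_irreducibleComponent.isConnected.isPreconnected.subset_connectedComponent mem_irreducibleComponent)
      (irreducibleComponent_mem_irreducibleComponents x).1.nonempty.some_mem

open Classical in
theorem ordinary_iff (k : Type u) [Field k] [IsAlgClosed k]
    (X : Scheme.{u}) [X.Over (Spec (CommRingCat.of k))] [IsProper (X ↘ (Spec (CommRingCat.of k)))]
    [AlgebraicGeometry.IsReduced X] (hequi : ∀ Z ∈ irreducibleComponents (X : Type u), topologicalKrullDim Z = 1)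
    [ConnectedSpace X] (X' : Scheme.{u}) (π : X' ⟶ X) [IsFinite π] (hX' : Pi1.IsNormalScheme X')
    (hbij : Set.BijOn (fun x' : X' => π x') (BiratDense12.maxPts X') (BiratDense12.maxPts X))
    (hres : ∀ x' ∈ BiratDense12.maxPts X', Function.Bijective (π.residueFieldMap x').hom) :
    letI : X'.Over (Spec (CommRingCat.of k)) := ⟨π ≫ (X ↘ (Spec (CommRingCat.of k)))⟩
    ((Curv2.genus k X : ℤ) = (Curv2.genus k X' : ℤ) +
        (∑ᶠ x : X, (if IsClosed ({x} : Set X) then (((Brnch.numBranchesAt X x).toNat : ℤ) - 1) else 0)) -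
        (Nat.card (irreducibleComponents (X : Type u)) : ℤ) + 1) ↔
      ∀ x : X, IsClosed ({x} : Set X) → Curv2.deltaInv (X.presheaf.stalk x) + 1 = Brnch.numBranchesAt X x := by
  letI : X'.Over (Spec (CommRingCat.of k)) := ⟨π ≫ (X ↘ (Spec (CommRingCat.of k)))⟩
  classical
  set f := X ↘ Spec (CommRingCat.of k)
  haveI := CohFound.isNoetherian_of_isProper f
  haveI := NormStalk17.isNoetherian_of_finite π
  haveI := NormStalk17.isReduced_of_normal hX'
  haveI : IsProper (X' ↘ Spec (CommRingCat.of k)) := inferInstanceAs (IsProper (π ≫ f))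
  have hd : topologicalKrullDim X ≤ 1 :=
    CurveR1_10.topologicalKrullDim_le_of_components fun Z hZ => (hequi Z hZ).le
  have hd' : topologicalKrullDim X' ≤ 1 := (H12.topologicalKrullDim_le_of_eq_of_specializes π π.continuous
    fun a b h e => H12.eq_of_specializes_of_isIntegralHom π h e).trans hd
  -- the isomorphism over a dense open
  have hiso : ∀ x' ∈ BiratDense12.maxPts X', IsIso (π.stalkMap x') := fun x' hx' => by
    have hfield : ∀ (Y : Scheme.{u}) [IsNoetherian Y] [AlgebraicGeometry.IsReduced Y] (y : Y),
        y ∈ BiratDense12.maxPts Y → IsField (Y.presheaf.stalk y) := fun Y _ _ y hy => isField_stalk_maximal y hy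
    have hF := hfield X (π x') (hbij.mapsTo hx')
    refine (ConcreteCategory.isIso_iff_bijective _).2 ⟨?_, fun b => ?_⟩
    · letI := hF.toField
      exact (π.stalkMap x').hom.injective
    · obtain ⟨a, ha⟩ := (hres x' hx').2 (IsLocalRing.residue _ b)
      obtain ⟨a, rfl⟩ := X.residue_surjective (π x') a
      refine ⟨a, sub_eq_zero.1 ?_⟩
      have h0 : IsLocalRing.residue (X'.presheaf.stalk x') ((π.stalkMap x').hom a - b) = 0 := by
        rw [map_sub, sub_eq_zero, ← ha]
        exact (ConcreteCategory.congr_hom (Scheme.residue_residueFieldMap π x') a).symm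
      have h1 := (IsLocalRing.residue_eq_zero_iff _).1 h0
      rwa [IsLocalRing.isField_iff_maximalIdeal_eq.1 (hfield X' x' hx'), Ideal.mem_bot] at h1
  obtain ⟨V, hV, hπV⟩ := BiratDense12.exists_isIso_restrict_of_birational π
    NoetherianSpace.finite_irreducibleComponents NoetherianSpace.finite_irreducibleComponents hbij hiso
    (Or.inl inferInstance) (Or.inl ⟨inferInstance, inferInstance⟩)
  have hU : Dense (V : Set X) := BiratDense12.dense_of_maxPts_subset hV
  have hU' : Dense ((π ⁻¹ᵁ V : X'.Opens) : Set X') :=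
    BiratDense12.dense_of_maxPts_subset fun x hx => hV (hbij.mapsTo hx)
  haveI := hπV
  let δ : X → ℕ := fun x => (Curv2.deltaInv (X.presheaf.stalk x)).toNat
  let m : X → ℕ := fun x => (Brnch.numBranchesAt X x).toNat
  let F : X → ℤ := fun x => if IsClosed ({x} : Set X) then (δ x : ℤ) else 0
  let G : X → ℤ := fun x => if IsClosed ({x} : Set X) then (m x : ℤ) - 1 else 0
  have hbd : ∀ x : X, IsClosed ({x} : Set X) →
      Curv2.deltaInv (X.presheaf.stalk x) = δ x ∧ Brnch.numBranchesAt X x = m x ∧ 1 ≤ m x ∧ m x ≤ δ x + 1 := by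
    intro x hx
    have hN := Multicross5.isNagata_stalk k x
    haveI := hN.1
    have hd1 := Multicross5.dim_stalk_eq_one k hequi hx
    have h1 : Curv2.deltaInv (X.presheaf.stalk x) = δ x :=
      (ENat.natCast_toNat (ne_top_of_lt (S7652.result _ hN hd1).2.2)).symm
    have h2 : Brnch.numBranchesAt X x ≤ ((δ x + 1 : ℕ) : ℕ∞) :=
      ((numBranches_le_numGeomBranches _).trans (S7655.result _ hN hd1)).trans_eq (by rw [h1]; push_cast; rfl)
    have h3 : Brnch.numBranchesAt X x = m x :=
      (ENat.natCast_toNat (ne_top_of_le_ne_top (ENat.natCast_ne_top _) h2)).symm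
    refine ⟨h1, h3, ?_, ?_⟩
    · have h := one_le_numBranches (X.presheaf.stalk x)
      rw [show Brnch.numBranches (X.presheaf.stalk x) = m x from h3] at h
      exact_mod_cast h
    · rw [h3] at h2; exact_mod_cast h2
  have hF : ∀ x, IsClosed ({x} : Set X) →
      F x = (Module.finrank k (X.residueField x) : ℤ) * ((Curv2.deltaInv (X.presheaf.stalk x)).toNat : ℤ) := by
    intro x hx
    rw [TwoPts17.finrank_residueField_eq_one hx, Nat.cast_one, one_mul]
    exact if_pos hx
  have he := NormStalk17.euler_eq (k := k) π hd (rfl : π ≫ f = X' ↘ Spec (CommRingCat.of k)) hX' V hU hU' F hF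
    fun x hx => if_neg hx
  rw [((CurveAmple18.curveLike k X' hd').adm CurveCoh17.isCoh_structureModule).euler_eq,
    ((CurveAmple18.curveLike k X hd).adm CurveCoh17.isCoh_structureModule).euler_eq,
    finrank_h0_eq_card, finrank_h0_eq_card, card_components_eq fun x => (hX' x).1] at he
  have hc : Nat.card (irreducibleComponents (X' : Type u)) = Nat.card (irreducibleComponents (X : Type u)) :=
    (Nat.card_congr (maxEquiv X')).symm.trans ((Nat.card_congr hbij.equiv).trans (Nat.card_congr (maxEquiv X)))
  haveI : Subsingleton (_root_.ConnectedComponents X) := ⟨fun a b => by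
    obtain ⟨x, rfl⟩ := ConnectedComponents.surjective_coe a
    obtain ⟨y, rfl⟩ := ConnectedComponents.surjective_coe b
    exact ConnectedComponents.coe_eq_coe'.2 (by rw [PreconnectedSpace.connectedComponent_eq_univ]; trivial)⟩
  rw [hc, show Nat.card (_root_.ConnectedComponents X) = 1 from
    Nat.card_eq_one_iff_unique.2 ⟨inferInstance, inferInstance⟩] at he
  obtain ⟨S, hS⟩ : ∃ S : Finset X, ∀ x, IsClosed ({x} : Set X) → δ x ≠ 0 → x ∈ S := by
    obtain ⟨S, hS⟩ := CurveCoh17.exists_suppIn_of_maximal (X := X) hd
      (M := cokernel (ClSub.unitToPush π)) (isCoh_coker' π) fun g hg a =>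
        CurveCoh17.eq_zero_stalk_cokernel _ g (CurveCoh17.surjective_stalkLin_unitToPush π V
          (CurveCoh17.mem_of_dense_of_maximal hU hg)) a
    refine ⟨S, fun x _ hne => by_contra fun hxS => hne ?_⟩
    haveI : Subsingleton ((cokernel (ClSub.unitToPush π)).presheaf.stalk x) :=
      ⟨fun a b => (hS.zero x hxS a).trans (hS.zero x hxS b).symm⟩
    show (Curv2.deltaInv (X.presheaf.stalk x)).toNat = 0
    rw [← NormStalk17.length_coker π hX' V hU hU' x, Module.length_eq_zero]
    rfl
  have hFS : Function.support F ⊆ S := fun x hx => by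
    by_cases hc : IsClosed ({x} : Set X)
    · exact hS x hc fun h => hx (by simp [F, h])
    · exact absurd (if_neg hc) hx
  have hGS : Function.support G ⊆ S := fun x hx => by
    by_cases hc : IsClosed ({x} : Set X)
    · refine hS x hc fun h => hx ?_
      obtain ⟨-, -, h1, h2⟩ := hbd x hc
      simp only [G, if_pos hc]
      omega
    · exact absurd (if_neg hc) hx
  rw [finsum_eq_sum_of_support_subset F hFS] at he
  show (Curv2.genus k X : ℤ) = (Curv2.genus k X' : ℤ) + (∑ᶠ x, G x) - _ + 1 ↔ _
  rw [finsum_eq_sum_of_support_subset G hGS]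
  unfold Curv2.genus
  push_cast at he ⊢
  have hle : ∀ x ∈ S, G x ≤ F x := fun x _ => by
    by_cases hc : IsClosed ({x} : Set X)
    · obtain ⟨-, -, h1, h2⟩ := hbd x hc
      simp only [F, G, if_pos hc]
      omega
    · simp only [F, G, if_neg hc, le_refl]
  constructor
  · intro h x hx
    have heq := (Finset.sum_eq_sum_iff_of_le hle).1 (by linarith)
    obtain ⟨e1, e2, h1, h2⟩ := hbd x hx
    rw [e1, e2]
    suffices δ x + 1 = m x by exact_mod_cast this
    by_cases hxS : x ∈ S
    · have := heq x hxS
      simp only [F, G, if_pos hx] at this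
      omega
    · have : δ x = 0 := by_contra fun h => hxS (hS x hx h)
      omega
  · intro h
    have heq : ∑ x ∈ S, G x = ∑ x ∈ S, F x := Finset.sum_congr rfl fun x _ => by
      by_cases hc : IsClosed ({x} : Set X)
      · obtain ⟨e1, e2, h1, h2⟩ := hbd x hc
        have h' := h x hc
        rw [e1, e2] at h'
        have h'' : δ x + 1 = m x := by exact_mod_cast h'
        simp only [F, G, if_pos hc]
        omega
      · simp only [F, G, if_neg hc]
    linarith

end Groth.Agent.H0Comp5
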